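import Mathlib
import Cfsg.Agent.Lib.Helper56.TC
import Cfsg.Agent.Lib.Helper56.ON122760.C0
import Cfsg.Agent.Lib.Helper56.ON122760.C1
import Cfsg.Agent.Lib.Helper56.ON122760.C2
import Cfsg.Agent.Lib.Helper56.ON122760.C3
import Cfsg.Agent.Lib.Helper56.ON122760.C4
import Cfsg.Agent.Lib.Helper56.ON122760.C5
import Cfsg.Agent.Lib.Helper56.ON122760.C6
import Cfsg.Agent.Lib.Helper56.ON122760.C7
import Cfsg.Agent.Lib.Helper56.ON122760.C8
import Cfsg.Agent.Lib.Helper56.ON122760.C9
import Cfsg.Agent.Lib.Helper56.ON122760.C10
import Cfsg.Agent.Lib.Helper56.ON122760.C11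
import Cfsg.Agent.Lib.Helper56.ON122760.C12
import Cfsg.Agent.Lib.Helper56.ON122760.C13
import Cfsg.Agent.Lib.Helper56.ON122760.C14
import Cfsg.Agent.Lib.Helper56.ON122760.C15
import Cfsg.Agent.Lib.Helper56.ON122760.C16
import Cfsg.Agent.Lib.Helper56.ON122760.C17
import Cfsg.Agent.Lib.Helper56.ON122760.C18
import Cfsg.Agent.Lib.Helper56.ON122760.C19
import Cfsg.Agent.Lib.Helper56.ON122760.C20
import Cfsg.Agent.Lib.Helper56.ON122760.C21
import Cfsg.Agent.Lib.Helper56.ON122760.C22
import Cfsg.Agent.Lib.Helper56.ON122760.C23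
import Cfsg.Agent.Lib.Helper56.ON122760.C24
import Cfsg.Agent.Lib.Helper56.ON122760.C25
import Cfsg.Agent.Lib.Helper56.ON122760.C26
import Cfsg.Agent.Lib.Helper56.ON122760.C27
import Cfsg.Agent.Lib.Helper56.ON122760.C28
import Cfsg.Agent.Lib.Helper56.ON122760.C29
import Cfsg.Agent.Lib.Helper56.ON122760.C30
import Cfsg.Agent.Lib.Helper56.ON122760.C31
import Cfsg.Agent.Lib.Helper56.ON122760.C32
import Cfsg.Agent.Lib.Helper56.ON122760.C33
import Cfsg.Agent.Lib.Helper56.ON122760.C34
import Cfsg.Agent.Lib.Helper56.ON122760.C35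
import Cfsg.Agent.Lib.Helper56.ON122760.C36
import Cfsg.Agent.Lib.Helper56.ON122760.C37
import Cfsg.Agent.Lib.Helper56.ON122760.C38
import Cfsg.Agent.Lib.Helper56.ON122760.C39
set_option autoImplicit false
set_option maxRecDepth 1000000

namespace Cfsg.Agent.Lib.Helper56.ON122760

open Cfsg.Agent.Lib.Helper56.TC Cfsg.Agent.Lib.Helper56.TC.Tabs

theorem uN_646 : Upto T.chkName 646 := upto_add (upto_zero T.chkName) rfl cN_0
theorem uN_1306 : Upto T.chkName 1306 := upto_add uN_646 rfl cN_646
theorem uN_1978 : Upto T.chkName 1978 := upto_add uN_1306 rfl cN_1306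
theorem uN_2641 : Upto T.chkName 2641 := upto_add uN_1978 rfl cN_1978
theorem uN_3307 : Upto T.chkName 3307 := upto_add uN_2641 rfl cN_2641
theorem uN_3949 : Upto T.chkName 3949 := upto_add uN_3307 rfl cN_3307
theorem uN_4607 : Upto T.chkName 4607 := upto_add uN_3949 rfl cN_3949
theorem uN_5271 : Upto T.chkName 5271 := upto_add uN_4607 rfl cN_4607
theorem uN_5913 : Upto T.chkName 5913 := upto_add uN_5271 rfl cN_5271
theorem uN_6552 : Upto T.chkName 6552 := upto_add uN_5913 rfl cN_5913
theorem uN_7224 : Upto T.chkName 7224 := upto_add uN_6552 rfl cN_6552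
theorem uN_7847 : Upto T.chkName 7847 := upto_add uN_7224 rfl cN_7224
theorem uN_8506 : Upto T.chkName 8506 := upto_add uN_7847 rfl cN_7847
theorem uN_9156 : Upto T.chkName 9156 := upto_add uN_8506 rfl cN_8506
theorem uN_9804 : Upto T.chkName 9804 := upto_add uN_9156 rfl cN_9156
theorem uN_10456 : Upto T.chkName 10456 := upto_add uN_9804 rfl cN_9804
theorem uN_11105 : Upto T.chkName 11105 := upto_add uN_10456 rfl cN_10456
theorem uN_11744 : Upto T.chkName 11744 := upto_add uN_11105 rfl cN_11105
theorem uN_12409 : Upto T.chkName 12409 := upto_add uN_11744 rfl cN_11744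
theorem uN_13058 : Upto T.chkName 13058 := upto_add uN_12409 rfl cN_12409
theorem uN_13719 : Upto T.chkName 13719 := upto_add uN_13058 rfl cN_13058
theorem uN_14371 : Upto T.chkName 14371 := upto_add uN_13719 rfl cN_13719
theorem uN_15013 : Upto T.chkName 15013 := upto_add uN_14371 rfl cN_14371
theorem uN_15640 : Upto T.chkName 15640 := upto_add uN_15013 rfl cN_15013
theorem uN_16266 : Upto T.chkName 16266 := upto_add uN_15640 rfl cN_15640
theorem uN_16925 : Upto T.chkName 16925 := upto_add uN_16266 rfl cN_16266
theorem uN_17586 : Upto T.chkName 17586 := upto_add uN_16925 rfl cN_16925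
theorem uN_18223 : Upto T.chkName 18223 := upto_add uN_17586 rfl cN_17586
theorem uN_18872 : Upto T.chkName 18872 := upto_add uN_18223 rfl cN_18223
theorem uN_19526 : Upto T.chkName 19526 := upto_add uN_18872 rfl cN_18872
theorem uN_20196 : Upto T.chkName 20196 := upto_add uN_19526 rfl cN_19526
theorem uN_20841 : Upto T.chkName 20841 := upto_add uN_20196 rfl cN_20196
theorem uN_21480 : Upto T.chkName 21480 := upto_add uN_20841 rfl cN_20841
theorem uN_22132 : Upto T.chkName 22132 := upto_add uN_21480 rfl cN_21480
theorem uN_22788 : Upto T.chkName 22788 := upto_add uN_22132 rfl cN_22132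
theorem uN_23429 : Upto T.chkName 23429 := upto_add uN_22788 rfl cN_22788
theorem uN_24091 : Upto T.chkName 24091 := upto_add uN_23429 rfl cN_23429
theorem uN_24761 : Upto T.chkName 24761 := upto_add uN_24091 rfl cN_24091
theorem uN_25416 : Upto T.chkName 25416 := upto_add uN_24761 rfl cN_24761
theorem uN_26052 : Upto T.chkName 26052 := upto_add uN_25416 rfl cN_25416
theorem uN_26692 : Upto T.chkName 26692 := upto_add uN_26052 rfl cN_26052
theorem uN_27331 : Upto T.chkName 27331 := upto_add uN_26692 rfl cN_26692
theorem uN_27993 : Upto T.chkName 27993 := upto_add uN_27331 rfl cN_27331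
theorem uN_28666 : Upto T.chkName 28666 := upto_add uN_27993 rfl cN_27993
theorem uN_29318 : Upto T.chkName 29318 := upto_add uN_28666 rfl cN_28666
theorem uN_29965 : Upto T.chkName 29965 := upto_add uN_29318 rfl cN_29318
theorem uN_30610 : Upto T.chkName 30610 := upto_add uN_29965 rfl cN_29965
theorem uN_31263 : Upto T.chkName 31263 := upto_add uN_30610 rfl cN_30610
theorem uN_31913 : Upto T.chkName 31913 := upto_add uN_31263 rfl cN_31263
theorem uN_32564 : Upto T.chkName 32564 := upto_add uN_31913 rfl cN_31913
theorem uN_33233 : Upto T.chkName 33233 := upto_add uN_32564 rfl cN_32564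
theorem uN_33896 : Upto T.chkName 33896 := upto_add uN_33233 rfl cN_33233
theorem uN_34550 : Upto T.chkName 34550 := upto_add uN_33896 rfl cN_33896
theorem uN_35215 : Upto T.chkName 35215 := upto_add uN_34550 rfl cN_34550
theorem uN_35855 : Upto T.chkName 35855 := upto_add uN_35215 rfl cN_35215
theorem uN_36504 : Upto T.chkName 36504 := upto_add uN_35855 rfl cN_35855
theorem uN_37148 : Upto T.chkName 37148 := upto_add uN_36504 rfl cN_36504
theorem uN_37802 : Upto T.chkName 37802 := upto_add uN_37148 rfl cN_37148
theorem uN_38455 : Upto T.chkName 38455 := upto_add uN_37802 rfl cN_37802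
theorem uN_39119 : Upto T.chkName 39119 := upto_add uN_38455 rfl cN_38455
theorem uN_39785 : Upto T.chkName 39785 := upto_add uN_39119 rfl cN_39119
theorem uN_40445 : Upto T.chkName 40445 := upto_add uN_39785 rfl cN_39785
theorem uN_41085 : Upto T.chkName 41085 := upto_add uN_40445 rfl cN_40445
theorem uN_41731 : Upto T.chkName 41731 := upto_add uN_41085 rfl cN_41085
theorem uN_42368 : Upto T.chkName 42368 := upto_add uN_41731 rfl cN_41731
theorem uN_43010 : Upto T.chkName 43010 := upto_add uN_42368 rfl cN_42368
theorem uN_43659 : Upto T.chkName 43659 := upto_add uN_43010 rfl cN_43010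
theorem uN_44306 : Upto T.chkName 44306 := upto_add uN_43659 rfl cN_43659
theorem uN_44947 : Upto T.chkName 44947 := upto_add uN_44306 rfl cN_44306
theorem uN_45591 : Upto T.chkName 45591 := upto_add uN_44947 rfl cN_44947
theorem uN_46246 : Upto T.chkName 46246 := upto_add uN_45591 rfl cN_45591
theorem uN_46914 : Upto T.chkName 46914 := upto_add uN_46246 rfl cN_46246
theorem uN_47569 : Upto T.chkName 47569 := upto_add uN_46914 rfl cN_46914
theorem uN_48231 : Upto T.chkName 48231 := upto_add uN_47569 rfl cN_47569
theorem uN_48881 : Upto T.chkName 48881 := upto_add uN_48231 rfl cN_48231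
theorem uN_49540 : Upto T.chkName 49540 := upto_add uN_48881 rfl cN_48881
theorem uN_50193 : Upto T.chkName 50193 := upto_add uN_49540 rfl cN_49540
theorem uN_50825 : Upto T.chkName 50825 := upto_add uN_50193 rfl cN_50193
theorem uN_51442 : Upto T.chkName 51442 := upto_add uN_50825 rfl cN_50825
theorem uN_52059 : Upto T.chkName 52059 := upto_add uN_51442 rfl cN_51442
theorem uN_52680 : Upto T.chkName 52680 := upto_add uN_52059 rfl cN_52059
theorem uN_53293 : Upto T.chkName 53293 := upto_add uN_52680 rfl cN_52680
theorem uN_53907 : Upto T.chkName 53907 := upto_add uN_53293 rfl cN_53293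
theorem uN_54517 : Upto T.chkName 54517 := upto_add uN_53907 rfl cN_53907
theorem uN_55139 : Upto T.chkName 55139 := upto_add uN_54517 rfl cN_54517
theorem uN_55749 : Upto T.chkName 55749 := upto_add uN_55139 rfl cN_55139
theorem uN_56345 : Upto T.chkName 56345 := upto_add uN_55749 rfl cN_55749
theorem uN_56940 : Upto T.chkName 56940 := upto_add uN_56345 rfl cN_56345
theorem uN_57528 : Upto T.chkName 57528 := upto_add uN_56940 rfl cN_56940
theorem uN_58132 : Upto T.chkName 58132 := upto_add uN_57528 rfl cN_57528
theorem uN_58717 : Upto T.chkName 58717 := upto_add uN_58132 rfl cN_58132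
theorem uN_59316 : Upto T.chkName 59316 := upto_add uN_58717 rfl cN_58717
theorem uN_59907 : Upto T.chkName 59907 := upto_add uN_59316 rfl cN_59316
theorem uN_60495 : Upto T.chkName 60495 := upto_add uN_59907 rfl cN_59907
theorem uN_61091 : Upto T.chkName 61091 := upto_add uN_60495 rfl cN_60495
theorem uN_61685 : Upto T.chkName 61685 := upto_add uN_61091 rfl cN_61091
theorem uN_62278 : Upto T.chkName 62278 := upto_add uN_61685 rfl cN_61685
theorem uN_62856 : Upto T.chkName 62856 := upto_add uN_62278 rfl cN_62278
theorem uN_63455 : Upto T.chkName 63455 := upto_add uN_62856 rfl cN_62856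
theorem uN_64052 : Upto T.chkName 64052 := upto_add uN_63455 rfl cN_63455
theorem uN_64633 : Upto T.chkName 64633 := upto_add uN_64052 rfl cN_64052
theorem uN_65210 : Upto T.chkName 65210 := upto_add uN_64633 rfl cN_64633
theorem uN_65785 : Upto T.chkName 65785 := upto_add uN_65210 rfl cN_65210
theorem uN_66365 : Upto T.chkName 66365 := upto_add uN_65785 rfl cN_65785
theorem uN_66927 : Upto T.chkName 66927 := upto_add uN_66365 rfl cN_66365
theorem uN_67494 : Upto T.chkName 67494 := upto_add uN_66927 rfl cN_66927
theorem uN_68070 : Upto T.chkName 68070 := upto_add uN_67494 rfl cN_67494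
theorem uN_68649 : Upto T.chkName 68649 := upto_add uN_68070 rfl cN_68070
theorem uN_69228 : Upto T.chkName 69228 := upto_add uN_68649 rfl cN_68649
theorem uN_69793 : Upto T.chkName 69793 := upto_add uN_69228 rfl cN_69228
theorem uN_70363 : Upto T.chkName 70363 := upto_add uN_69793 rfl cN_69793
theorem uN_70934 : Upto T.chkName 70934 := upto_add uN_70363 rfl cN_70363
theorem uN_71497 : Upto T.chkName 71497 := upto_add uN_70934 rfl cN_70934
theorem uN_72061 : Upto T.chkName 72061 := upto_add uN_71497 rfl cN_71497
theorem uN_72629 : Upto T.chkName 72629 := upto_add uN_72061 rfl cN_72061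
theorem uN_73192 : Upto T.chkName 73192 := upto_add uN_72629 rfl cN_72629
theorem uN_73752 : Upto T.chkName 73752 := upto_add uN_73192 rfl cN_73192
theorem uN_74311 : Upto T.chkName 74311 := upto_add uN_73752 rfl cN_73752
theorem uN_74869 : Upto T.chkName 74869 := upto_add uN_74311 rfl cN_74311
theorem uN_75429 : Upto T.chkName 75429 := upto_add uN_74869 rfl cN_74869
theorem uN_75986 : Upto T.chkName 75986 := upto_add uN_75429 rfl cN_75429
theorem uN_76545 : Upto T.chkName 76545 := upto_add uN_75986 rfl cN_75986
theorem uN_77090 : Upto T.chkName 77090 := upto_add uN_76545 rfl cN_76545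
theorem uN_77652 : Upto T.chkName 77652 := upto_add uN_77090 rfl cN_77090
theorem uN_78211 : Upto T.chkName 78211 := upto_add uN_77652 rfl cN_77652
theorem uN_78762 : Upto T.chkName 78762 := upto_add uN_78211 rfl cN_78211
theorem uN_79313 : Upto T.chkName 79313 := upto_add uN_78762 rfl cN_78762
theorem uN_79859 : Upto T.chkName 79859 := upto_add uN_79313 rfl cN_79313
theorem uN_80398 : Upto T.chkName 80398 := upto_add uN_79859 rfl cN_79859
theorem uN_80935 : Upto T.chkName 80935 := upto_add uN_80398 rfl cN_80398
theorem uN_81469 : Upto T.chkName 81469 := upto_add uN_80935 rfl cN_80935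
theorem uN_82015 : Upto T.chkName 82015 := upto_add uN_81469 rfl cN_81469
theorem uN_82553 : Upto T.chkName 82553 := upto_add uN_82015 rfl cN_82015
theorem uN_83099 : Upto T.chkName 83099 := upto_add uN_82553 rfl cN_82553
theorem uN_83642 : Upto T.chkName 83642 := upto_add uN_83099 rfl cN_83099
theorem uN_84195 : Upto T.chkName 84195 := upto_add uN_83642 rfl cN_83642
theorem uN_84751 : Upto T.chkName 84751 := upto_add uN_84195 rfl cN_84195
theorem uN_85313 : Upto T.chkName 85313 := upto_add uN_84751 rfl cN_84751
theorem uN_85879 : Upto T.chkName 85879 := upto_add uN_85313 rfl cN_85313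
theorem uN_86427 : Upto T.chkName 86427 := upto_add uN_85879 rfl cN_85879
theorem uN_86977 : Upto T.chkName 86977 := upto_add uN_86427 rfl cN_86427
theorem uN_87532 : Upto T.chkName 87532 := upto_add uN_86977 rfl cN_86977
theorem uN_88095 : Upto T.chkName 88095 := upto_add uN_87532 rfl cN_87532
theorem uN_88653 : Upto T.chkName 88653 := upto_add uN_88095 rfl cN_88095
theorem uN_89212 : Upto T.chkName 89212 := upto_add uN_88653 rfl cN_88653
theorem uN_89761 : Upto T.chkName 89761 := upto_add uN_89212 rfl cN_89212
theorem uN_90303 : Upto T.chkName 90303 := upto_add uN_89761 rfl cN_89761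
theorem uN_90863 : Upto T.chkName 90863 := upto_add uN_90303 rfl cN_90303
theorem uN_91433 : Upto T.chkName 91433 := upto_add uN_90863 rfl cN_90863
theorem uN_91989 : Upto T.chkName 91989 := upto_add uN_91433 rfl cN_91433
theorem uN_92554 : Upto T.chkName 92554 := upto_add uN_91989 rfl cN_91989
theorem uN_93110 : Upto T.chkName 93110 := upto_add uN_92554 rfl cN_92554
theorem uN_93667 : Upto T.chkName 93667 := upto_add uN_93110 rfl cN_93110
theorem uN_94226 : Upto T.chkName 94226 := upto_add uN_93667 rfl cN_93667
theorem uN_94772 : Upto T.chkName 94772 := upto_add uN_94226 rfl cN_94226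
theorem uN_95332 : Upto T.chkName 95332 := upto_add uN_94772 rfl cN_94772
theorem uN_95895 : Upto T.chkName 95895 := upto_add uN_95332 rfl cN_95332
theorem uN_96456 : Upto T.chkName 96456 := upto_add uN_95895 rfl cN_95895
theorem uN_97013 : Upto T.chkName 97013 := upto_add uN_96456 rfl cN_96456
theorem uN_97573 : Upto T.chkName 97573 := upto_add uN_97013 rfl cN_97013
theorem uN_98132 : Upto T.chkName 98132 := upto_add uN_97573 rfl cN_97573
theorem uN_98703 : Upto T.chkName 98703 := upto_add uN_98132 rfl cN_98132
theorem uN_99277 : Upto T.chkName 99277 := upto_add uN_98703 rfl cN_98703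
theorem uN_99839 : Upto T.chkName 99839 := upto_add uN_99277 rfl cN_99277
theorem uN_100396 : Upto T.chkName 100396 := upto_add uN_99839 rfl cN_99839
theorem uN_100958 : Upto T.chkName 100958 := upto_add uN_100396 rfl cN_100396
theorem uN_101527 : Upto T.chkName 101527 := upto_add uN_100958 rfl cN_100958
theorem uN_102096 : Upto T.chkName 102096 := upto_add uN_101527 rfl cN_101527
theorem uN_102669 : Upto T.chkName 102669 := upto_add uN_102096 rfl cN_102096
theorem uN_103224 : Upto T.chkName 103224 := upto_add uN_102669 rfl cN_102669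
theorem uN_103798 : Upto T.chkName 103798 := upto_add uN_103224 rfl cN_103224
theorem uN_104369 : Upto T.chkName 104369 := upto_add uN_103798 rfl cN_103798
theorem uN_104925 : Upto T.chkName 104925 := upto_add uN_104369 rfl cN_104369
theorem uN_105475 : Upto T.chkName 105475 := upto_add uN_104925 rfl cN_104925
theorem uN_106044 : Upto T.chkName 106044 := upto_add uN_105475 rfl cN_105475
theorem uN_106600 : Upto T.chkName 106600 := upto_add uN_106044 rfl cN_106044
theorem uN_107167 : Upto T.chkName 107167 := upto_add uN_106600 rfl cN_106600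
theorem uN_107739 : Upto T.chkName 107739 := upto_add uN_107167 rfl cN_107167
theorem uN_108306 : Upto T.chkName 108306 := upto_add uN_107739 rfl cN_107739
theorem uN_108868 : Upto T.chkName 108868 := upto_add uN_108306 rfl cN_108306
theorem uN_109448 : Upto T.chkName 109448 := upto_add uN_108868 rfl cN_108868
theorem uN_110029 : Upto T.chkName 110029 := upto_add uN_109448 rfl cN_109448
theorem uN_110598 : Upto T.chkName 110598 := upto_add uN_110029 rfl cN_110029
theorem uN_111182 : Upto T.chkName 111182 := upto_add uN_110598 rfl cN_110598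
theorem uN_111760 : Upto T.chkName 111760 := upto_add uN_111182 rfl cN_111182
theorem uN_112341 : Upto T.chkName 112341 := upto_add uN_111760 rfl cN_111760
theorem uN_112919 : Upto T.chkName 112919 := upto_add uN_112341 rfl cN_112341
theorem uN_113482 : Upto T.chkName 113482 := upto_add uN_112919 rfl cN_112919
theorem uN_114060 : Upto T.chkName 114060 := upto_add uN_113482 rfl cN_113482
theorem uN_114638 : Upto T.chkName 114638 := upto_add uN_114060 rfl cN_114060
theorem uN_115220 : Upto T.chkName 115220 := upto_add uN_114638 rfl cN_114638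
theorem uN_115804 : Upto T.chkName 115804 := upto_add uN_115220 rfl cN_115220
theorem uN_116387 : Upto T.chkName 116387 := upto_add uN_115804 rfl cN_115804
theorem uN_116969 : Upto T.chkName 116969 := upto_add uN_116387 rfl cN_116387
theorem uN_117566 : Upto T.chkName 117566 := upto_add uN_116969 rfl cN_116969
theorem uN_118157 : Upto T.chkName 118157 := upto_add uN_117566 rfl cN_117566
theorem uN_118760 : Upto T.chkName 118760 := upto_add uN_118157 rfl cN_118157
theorem uN_119352 : Upto T.chkName 119352 := upto_add uN_118760 rfl cN_118760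
theorem uN_119947 : Upto T.chkName 119947 := upto_add uN_119352 rfl cN_119352
theorem uN_120549 : Upto T.chkName 120549 := upto_add uN_119947 rfl cN_119947
theorem uN_121166 : Upto T.chkName 121166 := upto_add uN_120549 rfl cN_120549
theorem uN_121783 : Upto T.chkName 121783 := upto_add uN_121166 rfl cN_121166
theorem uN_122408 : Upto T.chkName 122408 := upto_add uN_121783 rfl cN_121783
theorem uN_123106 : Upto T.chkName 123106 := upto_add uN_122408 rfl cN_122408
theorem uN_123863 : Upto T.chkName 123863 := upto_add uN_123106 rfl cN_123106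
theorem uN_124605 : Upto T.chkName 124605 := upto_add uN_123863 rfl cN_123863
theorem uN_125340 : Upto T.chkName 125340 := upto_add uN_124605 rfl cN_124605
theorem uN_126052 : Upto T.chkName 126052 := upto_add uN_125340 rfl cN_125340
theorem uN_126779 : Upto T.chkName 126779 := upto_add uN_126052 rfl cN_126052
theorem uN_127541 : Upto T.chkName 127541 := upto_add uN_126779 rfl cN_126779
theorem uN_128266 : Upto T.chkName 128266 := upto_add uN_127541 rfl cN_127541
theorem uN_128963 : Upto T.chkName 128963 := upto_add uN_128266 rfl cN_128266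
theorem uN_129682 : Upto T.chkName 129682 := upto_add uN_128963 rfl cN_128963
theorem uN_130395 : Upto T.chkName 130395 := upto_add uN_129682 rfl cN_129682
theorem uN_131108 : Upto T.chkName 131108 := upto_add uN_130395 rfl cN_130395
theorem uN_131818 : Upto T.chkName 131818 := upto_add uN_131108 rfl cN_131108
theorem uN_132549 : Upto T.chkName 132549 := upto_add uN_131818 rfl cN_131818
theorem uN_133260 : Upto T.chkName 133260 := upto_add uN_132549 rfl cN_132549
theorem uN_133951 : Upto T.chkName 133951 := upto_add uN_133260 rfl cN_133260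
theorem uN_134660 : Upto T.chkName 134660 := upto_add uN_133951 rfl cN_133951
theorem uN_135371 : Upto T.chkName 135371 := upto_add uN_134660 rfl cN_134660
theorem uN_136067 : Upto T.chkName 136067 := upto_add uN_135371 rfl cN_135371
theorem uN_136762 : Upto T.chkName 136762 := upto_add uN_136067 rfl cN_136067
theorem uN_137439 : Upto T.chkName 137439 := upto_add uN_136762 rfl cN_136762
theorem uN_138110 : Upto T.chkName 138110 := upto_add uN_137439 rfl cN_137439
theorem uN_138802 : Upto T.chkName 138802 := upto_add uN_138110 rfl cN_138110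
theorem uN_139513 : Upto T.chkName 139513 := upto_add uN_138802 rfl cN_138802
theorem uN_140235 : Upto T.chkName 140235 := upto_add uN_139513 rfl cN_139513
theorem uN_140940 : Upto T.chkName 140940 := upto_add uN_140235 rfl cN_140235
theorem uN_141654 : Upto T.chkName 141654 := upto_add uN_140940 rfl cN_140940
theorem uN_142370 : Upto T.chkName 142370 := upto_add uN_141654 rfl cN_141654
theorem uN_143087 : Upto T.chkName 143087 := upto_add uN_142370 rfl cN_142370
theorem uN_143805 : Upto T.chkName 143805 := upto_add uN_143087 rfl cN_143087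
theorem uN_144559 : Upto T.chkName 144559 := upto_add uN_143805 rfl cN_143805
theorem uN_145285 : Upto T.chkName 145285 := upto_add uN_144559 rfl cN_144559
theorem uN_146000 : Upto T.chkName 146000 := upto_add uN_145285 rfl cN_145285
theorem uN_146708 : Upto T.chkName 146708 := upto_add uN_146000 rfl cN_146000
theorem uN_147432 : Upto T.chkName 147432 := upto_add uN_146708 rfl cN_146708
theorem uN_148133 : Upto T.chkName 148133 := upto_add uN_147432 rfl cN_147432
theorem uN_148849 : Upto T.chkName 148849 := upto_add uN_148133 rfl cN_148133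
theorem uN_149562 : Upto T.chkName 149562 := upto_add uN_148849 rfl cN_148849
theorem uN_150261 : Upto T.chkName 150261 := upto_add uN_149562 rfl cN_149562
theorem uN_150964 : Upto T.chkName 150964 := upto_add uN_150261 rfl cN_150261
theorem uN_151661 : Upto T.chkName 151661 := upto_add uN_150964 rfl cN_150964
theorem uN_152361 : Upto T.chkName 152361 := upto_add uN_151661 rfl cN_151661
theorem uN_153067 : Upto T.chkName 153067 := upto_add uN_152361 rfl cN_152361
theorem uN_153762 : Upto T.chkName 153762 := upto_add uN_153067 rfl cN_153067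
theorem uN_154472 : Upto T.chkName 154472 := upto_add uN_153762 rfl cN_153762
theorem uN_155187 : Upto T.chkName 155187 := upto_add uN_154472 rfl cN_154472
theorem uN_155887 : Upto T.chkName 155887 := upto_add uN_155187 rfl cN_155187
theorem uN_156575 : Upto T.chkName 156575 := upto_add uN_155887 rfl cN_155887
theorem uN_157308 : Upto T.chkName 157308 := upto_add uN_156575 rfl cN_156575
theorem uN_158034 : Upto T.chkName 158034 := upto_add uN_157308 rfl cN_157308
theorem uN_158794 : Upto T.chkName 158794 := upto_add uN_158034 rfl cN_158034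
theorem uN_159554 : Upto T.chkName 159554 := upto_add uN_158794 rfl cN_158794
theorem uN_160317 : Upto T.chkName 160317 := upto_add uN_159554 rfl cN_159554
theorem uN_161079 : Upto T.chkName 161079 := upto_add uN_160317 rfl cN_160317
theorem uN_161839 : Upto T.chkName 161839 := upto_add uN_161079 rfl cN_161079
theorem uN_162575 : Upto T.chkName 162575 := upto_add uN_161839 rfl cN_161839
theorem uN_163322 : Upto T.chkName 163322 := upto_add uN_162575 rfl cN_162575
theorem uN_164088 : Upto T.chkName 164088 := upto_add uN_163322 rfl cN_163322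
theorem uN_164847 : Upto T.chkName 164847 := upto_add uN_164088 rfl cN_164088
theorem uN_165577 : Upto T.chkName 165577 := upto_add uN_164847 rfl cN_164847
theorem uN_166311 : Upto T.chkName 166311 := upto_add uN_165577 rfl cN_165577
theorem uN_167043 : Upto T.chkName 167043 := upto_add uN_166311 rfl cN_166311
theorem uN_167785 : Upto T.chkName 167785 := upto_add uN_167043 rfl cN_167043
theorem uN_168516 : Upto T.chkName 168516 := upto_add uN_167785 rfl cN_167785
theorem uN_169270 : Upto T.chkName 169270 := upto_add uN_168516 rfl cN_168516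
theorem uN_170023 : Upto T.chkName 170023 := upto_add uN_169270 rfl cN_169270
theorem uN_170760 : Upto T.chkName 170760 := upto_add uN_170023 rfl cN_170023
theorem uN_171497 : Upto T.chkName 171497 := upto_add uN_170760 rfl cN_170760
theorem uN_172248 : Upto T.chkName 172248 := upto_add uN_171497 rfl cN_171497
theorem uN_173011 : Upto T.chkName 173011 := upto_add uN_172248 rfl cN_172248
theorem uN_173781 : Upto T.chkName 173781 := upto_add uN_173011 rfl cN_173011
theorem uN_174563 : Upto T.chkName 174563 := upto_add uN_173781 rfl cN_173781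
theorem uN_175353 : Upto T.chkName 175353 := upto_add uN_174563 rfl cN_174563
theorem uN_176134 : Upto T.chkName 176134 := upto_add uN_175353 rfl cN_175353
theorem uN_176901 : Upto T.chkName 176901 := upto_add uN_176134 rfl cN_176134
theorem uN_177658 : Upto T.chkName 177658 := upto_add uN_176901 rfl cN_176901
theorem uN_178422 : Upto T.chkName 178422 := upto_add uN_177658 rfl cN_177658
theorem uN_179177 : Upto T.chkName 179177 := upto_add uN_178422 rfl cN_178422
theorem uN_179919 : Upto T.chkName 179919 := upto_add uN_179177 rfl cN_179177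
theorem uN_180679 : Upto T.chkName 180679 := upto_add uN_179919 rfl cN_179919
theorem uN_181445 : Upto T.chkName 181445 := upto_add uN_180679 rfl cN_180679
theorem uN_182205 : Upto T.chkName 182205 := upto_add uN_181445 rfl cN_181445
theorem uN_182985 : Upto T.chkName 182985 := upto_add uN_182205 rfl cN_182205
theorem uN_183750 : Upto T.chkName 183750 := upto_add uN_182985 rfl cN_182985
theorem uN_184506 : Upto T.chkName 184506 := upto_add uN_183750 rfl cN_183750
theorem uN_185274 : Upto T.chkName 185274 := upto_add uN_184506 rfl cN_184506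
theorem uN_186036 : Upto T.chkName 186036 := upto_add uN_185274 rfl cN_185274
theorem uN_186808 : Upto T.chkName 186808 := upto_add uN_186036 rfl cN_186036
theorem uN_187583 : Upto T.chkName 187583 := upto_add uN_186808 rfl cN_186808
theorem uN_188355 : Upto T.chkName 188355 := upto_add uN_187583 rfl cN_187583
theorem uN_189131 : Upto T.chkName 189131 := upto_add uN_188355 rfl cN_188355
theorem uN_189909 : Upto T.chkName 189909 := upto_add uN_189131 rfl cN_189131
theorem uN_190683 : Upto T.chkName 190683 := upto_add uN_189909 rfl cN_189909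
theorem uN_191458 : Upto T.chkName 191458 := upto_add uN_190683 rfl cN_190683
theorem uN_192231 : Upto T.chkName 192231 := upto_add uN_191458 rfl cN_191458
theorem uN_193011 : Upto T.chkName 193011 := upto_add uN_192231 rfl cN_192231
theorem uN_193796 : Upto T.chkName 193796 := upto_add uN_193011 rfl cN_193011
theorem uN_194560 : Upto T.chkName 194560 := upto_add uN_193796 rfl cN_193796
theorem uN_195332 : Upto T.chkName 195332 := upto_add uN_194560 rfl cN_194560
theorem uN_196102 : Upto T.chkName 196102 := upto_add uN_195332 rfl cN_195332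
theorem uN_196873 : Upto T.chkName 196873 := upto_add uN_196102 rfl cN_196102
theorem uN_197555 : Upto T.chkName 197555 := upto_add uN_196873 rfl cN_196873
theorem uV_727 : Upto T.chkV 727 := upto_add (upto_zero T.chkV) rfl cV_0
theorem uV_1454 : Upto T.chkV 1454 := upto_add uV_727 rfl cV_727
theorem uV_2181 : Upto T.chkV 2181 := upto_add uV_1454 rfl cV_1454
theorem uV_2908 : Upto T.chkV 2908 := upto_add uV_2181 rfl cV_2181
theorem uV_3635 : Upto T.chkV 3635 := upto_add uV_2908 rfl cV_2908
theorem uV_4362 : Upto T.chkV 4362 := upto_add uV_3635 rfl cV_3635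
theorem uV_5089 : Upto T.chkV 5089 := upto_add uV_4362 rfl cV_4362
theorem uV_5816 : Upto T.chkV 5816 := upto_add uV_5089 rfl cV_5089
theorem uV_6543 : Upto T.chkV 6543 := upto_add uV_5816 rfl cV_5816
theorem uV_7270 : Upto T.chkV 7270 := upto_add uV_6543 rfl cV_6543
theorem uV_7997 : Upto T.chkV 7997 := upto_add uV_7270 rfl cV_7270
theorem uV_8724 : Upto T.chkV 8724 := upto_add uV_7997 rfl cV_7997
theorem uV_9451 : Upto T.chkV 9451 := upto_add uV_8724 rfl cV_8724
theorem uV_10178 : Upto T.chkV 10178 := upto_add uV_9451 rfl cV_9451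
theorem uV_10905 : Upto T.chkV 10905 := upto_add uV_10178 rfl cV_10178
theorem uV_11632 : Upto T.chkV 11632 := upto_add uV_10905 rfl cV_10905
theorem uV_12359 : Upto T.chkV 12359 := upto_add uV_11632 rfl cV_11632
theorem uV_13086 : Upto T.chkV 13086 := upto_add uV_12359 rfl cV_12359
theorem uV_13813 : Upto T.chkV 13813 := upto_add uV_13086 rfl cV_13086
theorem uV_14540 : Upto T.chkV 14540 := upto_add uV_13813 rfl cV_13813
theorem uV_15267 : Upto T.chkV 15267 := upto_add uV_14540 rfl cV_14540
theorem uV_15994 : Upto T.chkV 15994 := upto_add uV_15267 rfl cV_15267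
theorem uV_16721 : Upto T.chkV 16721 := upto_add uV_15994 rfl cV_15994
theorem uV_17448 : Upto T.chkV 17448 := upto_add uV_16721 rfl cV_16721
theorem uV_18175 : Upto T.chkV 18175 := upto_add uV_17448 rfl cV_17448
theorem uV_18902 : Upto T.chkV 18902 := upto_add uV_18175 rfl cV_18175
theorem uV_19629 : Upto T.chkV 19629 := upto_add uV_18902 rfl cV_18902
theorem uV_20356 : Upto T.chkV 20356 := upto_add uV_19629 rfl cV_19629
theorem uV_21083 : Upto T.chkV 21083 := upto_add uV_20356 rfl cV_20356
theorem uV_21810 : Upto T.chkV 21810 := upto_add uV_21083 rfl cV_21083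
theorem uV_22537 : Upto T.chkV 22537 := upto_add uV_21810 rfl cV_21810
theorem uV_23264 : Upto T.chkV 23264 := upto_add uV_22537 rfl cV_22537
theorem uV_23991 : Upto T.chkV 23991 := upto_add uV_23264 rfl cV_23264
theorem uV_24718 : Upto T.chkV 24718 := upto_add uV_23991 rfl cV_23991
theorem uV_25445 : Upto T.chkV 25445 := upto_add uV_24718 rfl cV_24718
theorem uV_26172 : Upto T.chkV 26172 := upto_add uV_25445 rfl cV_25445
theorem uV_26899 : Upto T.chkV 26899 := upto_add uV_26172 rfl cV_26172
theorem uV_27626 : Upto T.chkV 27626 := upto_add uV_26899 rfl cV_26899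
theorem uV_28353 : Upto T.chkV 28353 := upto_add uV_27626 rfl cV_27626
theorem uV_29080 : Upto T.chkV 29080 := upto_add uV_28353 rfl cV_28353
theorem uV_29807 : Upto T.chkV 29807 := upto_add uV_29080 rfl cV_29080
theorem uV_30534 : Upto T.chkV 30534 := upto_add uV_29807 rfl cV_29807
theorem uV_31261 : Upto T.chkV 31261 := upto_add uV_30534 rfl cV_30534
theorem uV_31988 : Upto T.chkV 31988 := upto_add uV_31261 rfl cV_31261
theorem uV_32715 : Upto T.chkV 32715 := upto_add uV_31988 rfl cV_31988
theorem uV_33442 : Upto T.chkV 33442 := upto_add uV_32715 rfl cV_32715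
theorem uV_34169 : Upto T.chkV 34169 := upto_add uV_33442 rfl cV_33442
theorem uV_34896 : Upto T.chkV 34896 := upto_add uV_34169 rfl cV_34169
theorem uV_35623 : Upto T.chkV 35623 := upto_add uV_34896 rfl cV_34896
theorem uV_36350 : Upto T.chkV 36350 := upto_add uV_35623 rfl cV_35623
theorem uV_37077 : Upto T.chkV 37077 := upto_add uV_36350 rfl cV_36350
theorem uV_37804 : Upto T.chkV 37804 := upto_add uV_37077 rfl cV_37077
theorem uV_38531 : Upto T.chkV 38531 := upto_add uV_37804 rfl cV_37804
theorem uV_39258 : Upto T.chkV 39258 := upto_add uV_38531 rfl cV_38531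
theorem uV_39985 : Upto T.chkV 39985 := upto_add uV_39258 rfl cV_39258
theorem uV_40712 : Upto T.chkV 40712 := upto_add uV_39985 rfl cV_39985
theorem uV_41439 : Upto T.chkV 41439 := upto_add uV_40712 rfl cV_40712
theorem uV_42166 : Upto T.chkV 42166 := upto_add uV_41439 rfl cV_41439
theorem uV_42893 : Upto T.chkV 42893 := upto_add uV_42166 rfl cV_42166
theorem uV_43620 : Upto T.chkV 43620 := upto_add uV_42893 rfl cV_42893
theorem uV_44347 : Upto T.chkV 44347 := upto_add uV_43620 rfl cV_43620
theorem uV_45074 : Upto T.chkV 45074 := upto_add uV_44347 rfl cV_44347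
theorem uV_45801 : Upto T.chkV 45801 := upto_add uV_45074 rfl cV_45074
theorem uV_46528 : Upto T.chkV 46528 := upto_add uV_45801 rfl cV_45801
theorem uV_47255 : Upto T.chkV 47255 := upto_add uV_46528 rfl cV_46528
theorem uV_47982 : Upto T.chkV 47982 := upto_add uV_47255 rfl cV_47255
theorem uV_48709 : Upto T.chkV 48709 := upto_add uV_47982 rfl cV_47982
theorem uV_49436 : Upto T.chkV 49436 := upto_add uV_48709 rfl cV_48709
theorem uV_50163 : Upto T.chkV 50163 := upto_add uV_49436 rfl cV_49436
theorem uV_50890 : Upto T.chkV 50890 := upto_add uV_50163 rfl cV_50163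
theorem uV_51617 : Upto T.chkV 51617 := upto_add uV_50890 rfl cV_50890
theorem uV_52344 : Upto T.chkV 52344 := upto_add uV_51617 rfl cV_51617
theorem uV_53071 : Upto T.chkV 53071 := upto_add uV_52344 rfl cV_52344
theorem uV_53798 : Upto T.chkV 53798 := upto_add uV_53071 rfl cV_53071
theorem uV_54525 : Upto T.chkV 54525 := upto_add uV_53798 rfl cV_53798
theorem uV_55252 : Upto T.chkV 55252 := upto_add uV_54525 rfl cV_54525
theorem uV_55979 : Upto T.chkV 55979 := upto_add uV_55252 rfl cV_55252
theorem uV_56706 : Upto T.chkV 56706 := upto_add uV_55979 rfl cV_55979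
theorem uV_57433 : Upto T.chkV 57433 := upto_add uV_56706 rfl cV_56706
theorem uV_58160 : Upto T.chkV 58160 := upto_add uV_57433 rfl cV_57433
theorem uV_58887 : Upto T.chkV 58887 := upto_add uV_58160 rfl cV_58160
theorem uV_59614 : Upto T.chkV 59614 := upto_add uV_58887 rfl cV_58887
theorem uV_60341 : Upto T.chkV 60341 := upto_add uV_59614 rfl cV_59614
theorem uV_61068 : Upto T.chkV 61068 := upto_add uV_60341 rfl cV_60341
theorem uV_61795 : Upto T.chkV 61795 := upto_add uV_61068 rfl cV_61068
theorem uV_62522 : Upto T.chkV 62522 := upto_add uV_61795 rfl cV_61795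
theorem uV_63249 : Upto T.chkV 63249 := upto_add uV_62522 rfl cV_62522
theorem uV_63976 : Upto T.chkV 63976 := upto_add uV_63249 rfl cV_63249
theorem uV_64703 : Upto T.chkV 64703 := upto_add uV_63976 rfl cV_63976
theorem uV_65430 : Upto T.chkV 65430 := upto_add uV_64703 rfl cV_64703
theorem uV_66157 : Upto T.chkV 66157 := upto_add uV_65430 rfl cV_65430
theorem uV_66884 : Upto T.chkV 66884 := upto_add uV_66157 rfl cV_66157
theorem uV_67611 : Upto T.chkV 67611 := upto_add uV_66884 rfl cV_66884
theorem uV_68338 : Upto T.chkV 68338 := upto_add uV_67611 rfl cV_67611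
theorem uV_69065 : Upto T.chkV 69065 := upto_add uV_68338 rfl cV_68338
theorem uV_69792 : Upto T.chkV 69792 := upto_add uV_69065 rfl cV_69065
theorem uV_70519 : Upto T.chkV 70519 := upto_add uV_69792 rfl cV_69792
theorem uV_71246 : Upto T.chkV 71246 := upto_add uV_70519 rfl cV_70519
theorem uV_71973 : Upto T.chkV 71973 := upto_add uV_71246 rfl cV_71246
theorem uV_72700 : Upto T.chkV 72700 := upto_add uV_71973 rfl cV_71973
theorem uV_73427 : Upto T.chkV 73427 := upto_add uV_72700 rfl cV_72700
theorem uV_74154 : Upto T.chkV 74154 := upto_add uV_73427 rfl cV_73427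
theorem uV_74881 : Upto T.chkV 74881 := upto_add uV_74154 rfl cV_74154
theorem uV_75608 : Upto T.chkV 75608 := upto_add uV_74881 rfl cV_74881
theorem uV_76335 : Upto T.chkV 76335 := upto_add uV_75608 rfl cV_75608
theorem uV_77062 : Upto T.chkV 77062 := upto_add uV_76335 rfl cV_76335
theorem uV_77789 : Upto T.chkV 77789 := upto_add uV_77062 rfl cV_77062
theorem uV_78516 : Upto T.chkV 78516 := upto_add uV_77789 rfl cV_77789
theorem uV_79243 : Upto T.chkV 79243 := upto_add uV_78516 rfl cV_78516
theorem uV_79970 : Upto T.chkV 79970 := upto_add uV_79243 rfl cV_79243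
theorem uV_80697 : Upto T.chkV 80697 := upto_add uV_79970 rfl cV_79970
theorem uV_81424 : Upto T.chkV 81424 := upto_add uV_80697 rfl cV_80697
theorem uV_82151 : Upto T.chkV 82151 := upto_add uV_81424 rfl cV_81424
theorem uV_82878 : Upto T.chkV 82878 := upto_add uV_82151 rfl cV_82151
theorem uV_83605 : Upto T.chkV 83605 := upto_add uV_82878 rfl cV_82878
theorem uV_84332 : Upto T.chkV 84332 := upto_add uV_83605 rfl cV_83605
theorem uV_85059 : Upto T.chkV 85059 := upto_add uV_84332 rfl cV_84332
theorem uV_85786 : Upto T.chkV 85786 := upto_add uV_85059 rfl cV_85059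
theorem uV_86513 : Upto T.chkV 86513 := upto_add uV_85786 rfl cV_85786
theorem uV_87240 : Upto T.chkV 87240 := upto_add uV_86513 rfl cV_86513
theorem uV_87967 : Upto T.chkV 87967 := upto_add uV_87240 rfl cV_87240
theorem uV_88694 : Upto T.chkV 88694 := upto_add uV_87967 rfl cV_87967
theorem uV_89421 : Upto T.chkV 89421 := upto_add uV_88694 rfl cV_88694
theorem uV_90148 : Upto T.chkV 90148 := upto_add uV_89421 rfl cV_89421
theorem uV_90875 : Upto T.chkV 90875 := upto_add uV_90148 rfl cV_90148
theorem uV_91602 : Upto T.chkV 91602 := upto_add uV_90875 rfl cV_90875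
theorem uV_92329 : Upto T.chkV 92329 := upto_add uV_91602 rfl cV_91602
theorem uV_93056 : Upto T.chkV 93056 := upto_add uV_92329 rfl cV_92329
theorem uV_93783 : Upto T.chkV 93783 := upto_add uV_93056 rfl cV_93056
theorem uV_94510 : Upto T.chkV 94510 := upto_add uV_93783 rfl cV_93783
theorem uV_95237 : Upto T.chkV 95237 := upto_add uV_94510 rfl cV_94510
theorem uV_95964 : Upto T.chkV 95964 := upto_add uV_95237 rfl cV_95237
theorem uV_96691 : Upto T.chkV 96691 := upto_add uV_95964 rfl cV_95964
theorem uV_97418 : Upto T.chkV 97418 := upto_add uV_96691 rfl cV_96691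
theorem uV_98145 : Upto T.chkV 98145 := upto_add uV_97418 rfl cV_97418
theorem uV_98872 : Upto T.chkV 98872 := upto_add uV_98145 rfl cV_98145
theorem uV_99599 : Upto T.chkV 99599 := upto_add uV_98872 rfl cV_98872
theorem uV_100326 : Upto T.chkV 100326 := upto_add uV_99599 rfl cV_99599
theorem uV_101053 : Upto T.chkV 101053 := upto_add uV_100326 rfl cV_100326
theorem uV_101780 : Upto T.chkV 101780 := upto_add uV_101053 rfl cV_101053
theorem uV_102507 : Upto T.chkV 102507 := upto_add uV_101780 rfl cV_101780
theorem uV_103234 : Upto T.chkV 103234 := upto_add uV_102507 rfl cV_102507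
theorem uV_103961 : Upto T.chkV 103961 := upto_add uV_103234 rfl cV_103234
theorem uV_104688 : Upto T.chkV 104688 := upto_add uV_103961 rfl cV_103961
theorem uV_105415 : Upto T.chkV 105415 := upto_add uV_104688 rfl cV_104688
theorem uV_106142 : Upto T.chkV 106142 := upto_add uV_105415 rfl cV_105415
theorem uV_106869 : Upto T.chkV 106869 := upto_add uV_106142 rfl cV_106142
theorem uV_107596 : Upto T.chkV 107596 := upto_add uV_106869 rfl cV_106869
theorem uV_108323 : Upto T.chkV 108323 := upto_add uV_107596 rfl cV_107596
theorem uV_109050 : Upto T.chkV 109050 := upto_add uV_108323 rfl cV_108323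
theorem uV_109777 : Upto T.chkV 109777 := upto_add uV_109050 rfl cV_109050
theorem uV_110504 : Upto T.chkV 110504 := upto_add uV_109777 rfl cV_109777
theorem uV_111231 : Upto T.chkV 111231 := upto_add uV_110504 rfl cV_110504
theorem uV_111958 : Upto T.chkV 111958 := upto_add uV_111231 rfl cV_111231
theorem uV_112685 : Upto T.chkV 112685 := upto_add uV_111958 rfl cV_111958
theorem uV_113412 : Upto T.chkV 113412 := upto_add uV_112685 rfl cV_112685
theorem uV_114139 : Upto T.chkV 114139 := upto_add uV_113412 rfl cV_113412
theorem uV_114866 : Upto T.chkV 114866 := upto_add uV_114139 rfl cV_114139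
theorem uV_115593 : Upto T.chkV 115593 := upto_add uV_114866 rfl cV_114866
theorem uV_116320 : Upto T.chkV 116320 := upto_add uV_115593 rfl cV_115593
theorem uV_117047 : Upto T.chkV 117047 := upto_add uV_116320 rfl cV_116320
theorem uV_117774 : Upto T.chkV 117774 := upto_add uV_117047 rfl cV_117047
theorem uV_118501 : Upto T.chkV 118501 := upto_add uV_117774 rfl cV_117774
theorem uV_119228 : Upto T.chkV 119228 := upto_add uV_118501 rfl cV_118501
theorem uV_119955 : Upto T.chkV 119955 := upto_add uV_119228 rfl cV_119228
theorem uV_120682 : Upto T.chkV 120682 := upto_add uV_119955 rfl cV_119955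
theorem uV_121409 : Upto T.chkV 121409 := upto_add uV_120682 rfl cV_120682
theorem uV_122136 : Upto T.chkV 122136 := upto_add uV_121409 rfl cV_121409
theorem uV_122760 : Upto T.chkV 122760 := upto_add uV_122136 rfl cV_122136

/-- The certificate is valid. -/
theorem cert : T.Cert where
  h0 := by decide +kernel
  hrx := by decide +kernel
  hs0 := by decide +kernel
  hname := uN_197555
  hV := uV_122760

theorem orep_0 : T.orep 0 < T.N ∧ T.ol (T.orep 0) = 0 := by decide +kernel
theorem cnt_0 : countLt (fun v => Nat.beq (T.ol v) 0) T.N = 1 := by decide +kernel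
theorem orep_1 : T.orep 1 < T.N ∧ T.ol (T.orep 1) = 1 := by decide +kernel
theorem cnt_1 : countLt (fun v => Nat.beq (T.ol v) 1) T.N = 58653 := by decide +kernel
theorem orep_2 : T.orep 2 < T.N ∧ T.ol (T.orep 2) = 2 := by decide +kernel
theorem cnt_2 : countLt (fun v => Nat.beq (T.ol v) 2) T.N = 52136 := by decide +kernel
theorem orep_3 : T.orep 3 < T.N ∧ T.ol (T.orep 3) = 3 := by decide +kernel
theorem cnt_3 : countLt (fun v => Nat.beq (T.ol v) 3) T.N = 5586 := by decide +kernel
theorem orep_4 : T.orep 4 < T.N ∧ T.ol (T.orep 4) = 4 := by decide +kernel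
theorem cnt_4 : countLt (fun v => Nat.beq (T.ol v) 4) T.N = 6384 := by decide +kernel

end Cfsg.Agent.Lib.Helper56.ON122760
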