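import Mathlib
import Cfsg.Agent.Lib.Helper56.TC
import Cfsg.Agent.Lib.Helper56.TCFast
import Cfsg.Agent.Lib.Helper56.ON122760.DA0
import Cfsg.Agent.Lib.Helper56.ON122760.DA1
import Cfsg.Agent.Lib.Helper56.ON122760.DA2
import Cfsg.Agent.Lib.Helper56.ON122760.DA3
import Cfsg.Agent.Lib.Helper56.ON122760.DA4
import Cfsg.Agent.Lib.Helper56.ON122760.DA5
set_option autoImplicit false
set_option maxRecDepth 1000000

namespace Cfsg.Agent.Lib.Helper56.ON122760

open Cfsg.Agent.Lib.Helper56.TC Cfsg.Agent.Lib.Helper56.TC.Tabs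

noncomputable def nA : List (List ℕ) := [nA0, nA1, nA2, nA3, nA4, nA5, nA6, nA7, nA8, nA9, nA10, nA11, nA12, nA13, nA14, nA15, nA16, nA17, nA18, nA19, nA20, nA21, nA22, nA23, nA24, nA25, nA26, nA27, nA28, nA29, nA30, nA31, nA32, nA33, nA34, nA35, nA36, nA37, nA38, nA39, nA40, nA41, nA42, nA43, nA44, nA45, nA46, nA47, nA48, nA49, nA50, nA51, nA52, nA53, nA54, nA55, nA56, nA57, nA58, nA59, nA60, nA61, nA62, nA63, nA64, nA65, nA66, nA67, nA68, nA69, nA70, nA71, nA72, nA73, nA74, nA75, nA76, nA77, nA78, nA79, nA80, nA81, nA82, nA83, nA84, nA85, nA86, nA87, nA88, nA89, nA90, nA91, nA92, nA93, nA94, nA95, nA96, nA97, nA98, nA99, nA100, nA101, nA102, nA103, nA104, nA105, nA106, nA107, nA108, nA109, nA110, nA111, nA112, nA113, nA114, nA115, nA116, nA117, nA118, nA119, nA120, nA121, nA122, nA123, nA124, nA125, nA126, nA127, nA128, nA129, nA130, nA131, nA132, nA133, nA134, nA135, nA136, nA137, nA138, nA139, nA140, nA141, nA142, nA143, nA144, nA145, nA146, nA147, nA148, nA149, nA150, nA151,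 nA152, nA153, nA154, nA155, nA156, nA157, nA158, nA159, nA160, nA161, nA162, nA163, nA164, nA165, nA166]

noncomputable def fA : List (List ℕ) := [fA0, fA1, fA2, fA3, fA4, fA5, fA6, fA7, fA8, fA9, fA10, fA11, fA12, fA13, fA14, fA15, fA16, fA17, fA18, fA19, fA20, fA21, fA22, fA23, fA24, fA25, fA26, fA27, fA28, fA29, fA30, fA31, fA32, fA33, fA34, fA35, fA36, fA37, fA38, fA39, fA40]

/-- The certificate data. -/
noncomputable def T : Tabs where
  K := 8
  N := 122760
  N' := 197555
  INF := 879353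
  fuel := 5
  inv := fun l => Tabs.nth 0 [7, 1, 2, 3, 4, 5, 6, 0] l
  tg := slotFld2 nA 37 440 2839213766779714416208296124562517712318911565184836172974571090549372219192960637992933791850638927971728600024477257552869537611775 8 48 56 262143 (fun _ => 0)
  rk := slotFld2 nA 37 440 2839213766779714416208296124562517712318911565184836172974571090549372219192960637992933791850638927971728600024477257552869537611775 8 48 74 1048575
    (fun x => Nat.rec (motive := fun _ => ℕ) 0 (fun _ _ => 879353) x)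
  jc := slotFld2 nA 37 440 2839213766779714416208296124562517712318911565184836172974571090549372219192960637992933791850638927971728600024477257552869537611775 8 48 94 1023
    (fun x => Nat.rec (motive := fun _ => ℕ) 3 (fun _ _ => 0) x)
  dd := fldA nA 37 440 2839213766779714416208296124562517712318911565184836172974571090549372219192960637992933791850638927971728600024477257552869537611775 0 31
  dl := fldA nA 37 440 2839213766779714416208296124562517712318911565184836172974571090549372219192960637992933791850638927971728600024477257552869537611775 5 7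
  qj := fldA nA 37 440 2839213766779714416208296124562517712318911565184836172974571090549372219192960637992933791850638927971728600024477257552869537611775 8 1023
  mp := fldA nA 37 440 2839213766779714416208296124562517712318911565184836172974571090549372219192960637992933791850638927971728600024477257552869537611775 18 262143
  mt := fldA nA 37 440 2839213766779714416208296124562517712318911565184836172974571090549372219192960637992933791850638927971728600024477257552869537611775 36 1048575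
  tb := tbFld2 fA 94 173 11972621413014756705924586149611790497021399392059391 17 37 131071
  rels1 := [[1, 2, 1, 2, 1, 2],
    [1, 3, 1, 3],
    [1, 4, 1, 4],
    [1, 5, 1, 5],
    [1, 6, 1, 6],
    [2, 3, 2, 3, 2, 3],
    [2, 4, 2, 4],
    [2, 5, 2, 5],
    [2, 6, 2, 6],
    [3, 4, 3, 4, 3, 4, 3, 4, 3, 4, 3, 4, 3, 4, 3, 4],
    [3, 5, 3, 5],
    [3, 6, 3, 6],
    [4, 5, 4, 5, 4, 5],
    [4, 6, 4, 6],
    [5, 6, 5, 6, 5, 6],
    [1, 6, 7, 7],
    [1, 6, 4, 3, 4, 3, 4, 3, 4, 3],
    [3, 7, 4, 7, 4, 3, 4, 0, 4, 0],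
    [4, 7, 3, 7, 3, 4, 3, 0, 3, 0],
    [2, 3, 4, 0, 2, 3, 4, 0, 2, 3, 4, 0, 2, 3, 4, 0, 2, 3, 4, 0],
    [0, 2, 3, 0, 3, 2, 0, 2, 3, 0, 3],
    [0, 5, 4, 0, 4, 5, 0, 5, 4, 0, 4]]
  subs := [[1],
    [2],
    [3],
    [4],
    [5],
    [6]]
  rx := [[1, 2, 1, 2, 1, 2],
    [1, 3, 1, 3],
    [1, 4, 1, 4],
    [1, 5, 1, 5],
    [1, 6, 1, 6],
    [2, 3, 2, 3, 2, 3],
    [2, 4, 2, 4],
    [2, 5, 2, 5],
    [2, 6, 2, 6],
    [3, 4, 3, 4, 3, 4, 3, 4, 3, 4, 3, 4, 3, 4, 3, 4],
    [3, 5, 3, 5],
    [3, 6, 3, 6],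
    [4, 5, 4, 5, 4, 5],
    [4, 6, 4, 6],
    [5, 6, 5, 6, 5, 6],
    [1, 6, 7, 7],
    [1, 6, 4, 3, 4, 3, 4, 3, 4, 3],
    [3, 7, 4, 7, 4, 3, 4, 0, 4, 0],
    [4, 7, 3, 7, 3, 4, 3, 0, 3, 0],
    [2, 3, 4, 0, 2, 3, 4, 0, 2, 3, 4, 0, 2, 3, 4, 0, 2, 3, 4, 0],
    [0, 2, 3, 0, 3, 2, 0, 2, 3, 0, 3],
    [0, 5, 4, 0, 4, 5, 0, 5, 4, 0, 4],
    [1, 8],
    [2, 9],
    [3, 10],
    [4, 11],
    [5, 12],
    [6, 13]]
  RB := 21
  tpl := fldA fA 94 173 11972621413014756705924586149611790497021399392059391 0 7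
  tdep := fldA fA 94 173 11972621413014756705924586149611790497021399392059391 3 31
  ol := fldA fA 94 173 11972621413014756705924586149611790497021399392059391 8 7
  oc := fldA fA 94 173 11972621413014756705924586149611790497021399392059391 11 7
  op := fldA fA 94 173 11972621413014756705924586149611790497021399392059391 14 131071
  odep := fldA fA 94 173 11972621413014756705924586149611790497021399392059391 31 63
  orep := fun c => Tabs.nth 0 [0, 1, 6, 12, 31] c

end Cfsg.Agent.Lib.Helper56.ON122760
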